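import Mathlib

/-!
# Counting tools for faithful 2-transitive actions (used for the Tits group, S2197)
-/

set_option autoImplicit false
set_option linter.style.haveILetI false

namespace Cfsg.Agent.Helper9.TitsTT

open MulAction

section General

variable {T : Type*} [Group T] {Ω : Type*} [MulAction T Ω]

/-- conjugate elements have the same number of fixed points -/
theorem ncard_fixedBy_of_isConj {g h : T} (hc : IsConj g h) :
    (fixedBy Ω g).ncard = (fixedBy Ω h).ncard := by
  obtain ⟨c, hc⟩ := isConj_iff.mp hc
  rw [← hc, ← smul_fixedBy, Set.ncard_smul_set]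

/-- Burnside's lemma for a subgroup all of whose non-identity elements have `f` fixed points. -/
theorem burnside_const [Finite T] [Finite Ω] (S : Subgroup T) (f : ℕ)
    (hf : ∀ g ∈ S, g ≠ 1 → (fixedBy Ω g).ncard = f) :
    Nat.card Ω + (Nat.card S - 1) * f =
      Nat.card (Quotient (orbitRel S Ω)) * Nat.card S := by
  classical
  haveI : Fintype T := Fintype.ofFinite T
  haveI : Fintype Ω := Fintype.ofFinite Ω
  haveI : Fintype S := Fintype.ofFinite S
  haveI : Fintype (Quotient (orbitRel S Ω)) := Fintype.ofFinite _
  have hB := MulAction.sum_card_fixedBy_eq_card_orbits_mul_card_group S Ω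
  have h1 : Fintype.card (fixedBy Ω (1 : S)) = Nat.card Ω := by
    rw [← Nat.card_eq_fintype_card, Nat.card_coe_set_eq]
    have : fixedBy Ω (1 : S) = Set.univ := fixedBy_one_eq_univ (M := S) (α := Ω)
    rw [this, Set.ncard_univ]
  have h2 : ∑ g ∈ (Finset.univ : Finset S).erase 1, Fintype.card (fixedBy Ω g) =
      (Nat.card S - 1) * f := by
    rw [Finset.sum_const_nat (m := f)]
    · rw [Finset.card_erase_of_mem (Finset.mem_univ _), Finset.card_univ,
        Nat.card_eq_fintype_card]
    · intro g hg
      have hg1 : (g : T) ≠ 1 := by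
        intro h
        exact (Finset.mem_erase.mp hg).1 (Subtype.ext h)
      rw [← Nat.card_eq_fintype_card, Nat.card_coe_set_eq]
      exact hf g g.2 hg1
  rw [← Finset.add_sum_erase Finset.univ _ (Finset.mem_univ (1 : S)), h1, h2] at hB
  rw [hB, Nat.card_eq_fintype_card, Nat.card_eq_fintype_card]

end General

end Cfsg.Agent.Helper9.TitsTT
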