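import Mathlib
import Cfsg.Agent.Helper9.TitsTT.Gen

/-!
# A Frobenius pair `x, y` (orders 13 and 3, `y x y⁻¹ = x³`) acting on a finite set
-/

set_option autoImplicit false
set_option linter.style.haveILetI false

namespace Cfsg.Agent.Helper9.TitsTT

open MulAction

section XY

variable {T : Type*} [Group T] {Ω : Type*} [MulAction T Ω]
variable {x y : T}

theorem pow13_of_mem (hx : orderOf x = 13) {g : T} (hg : g ∈ Subgroup.zpowers x) :
    g ^ 13 = 1 := by
  obtain ⟨j, rfl⟩ := Subgroup.mem_zpowers_iff.mp hg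
  have h13 : x ^ 13 = 1 := by rw [← hx]; exact pow_orderOf_eq_one x
  rw [← zpow_natCast, ← zpow_mul, mul_comm, zpow_mul, zpow_natCast, h13, one_zpow]

theorem conj3_of_mem (hxy : y * x * y⁻¹ = x ^ 3) {g : T} (hg : g ∈ Subgroup.zpowers x) :
    y * g * y⁻¹ = g ^ 3 := by
  obtain ⟨j, rfl⟩ := Subgroup.mem_zpowers_iff.mp hg
  rw [← conj_zpow, hxy, ← zpow_natCast, ← zpow_natCast, ← zpow_mul, ← zpow_mul, mul_comm]

theorem fixedBy_eq_of_mem (hx : orderOf x = 13) {g : T} (hg : g ∈ Subgroup.zpowers x)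
    (hg1 : g ≠ 1) : fixedBy Ω g = fixedBy Ω x := by
  apply Set.Subset.antisymm
  · have hcard : Nat.card (Subgroup.zpowers x) = 13 := by rw [Nat.card_zpowers, hx]
    haveI : Fact (Nat.Prime 13) := ⟨by norm_num⟩
    have htop := zpowers_eq_top_of_prime_card hcard (g := (⟨g, hg⟩ : Subgroup.zpowers x))
      (by intro h; exact hg1 (congrArg Subtype.val h))
    have hxm : (⟨x, Subgroup.mem_zpowers x⟩ : Subgroup.zpowers x) ∈
        Subgroup.zpowers (⟨g, hg⟩ : Subgroup.zpowers x) := by rw [htop]; trivial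
    obtain ⟨i, hi⟩ := Subgroup.mem_zpowers_iff.mp hxm
    have hi' : g ^ i = x := by simpa using congrArg Subtype.val hi
    rw [← hi']
    exact fixedBy_subset_fixedBy_zpow Ω g i
  · obtain ⟨j, rfl⟩ := Subgroup.mem_zpowers_iff.mp hg
    exact fixedBy_subset_fixedBy_zpow Ω x j

/-- orbit counting for `⟨x⟩`. -/
theorem burnside_x [Finite T] [Finite Ω] (hx : orderOf x = 13) :
    Nat.card Ω + 12 * (fixedBy Ω x).ncard =
      Nat.card (Quotient (orbitRel (Subgroup.zpowers x) Ω)) * 13 := by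
  have h := burnside_const (Ω := Ω) (Subgroup.zpowers x) (fixedBy Ω x).ncard
    (fun g hg hg1 => by rw [fixedBy_eq_of_mem hx hg hg1])
  rw [Nat.card_zpowers, hx] at h
  exact h

/-- every `⟨x⟩`-orbit contains at most one fixed point of `y`. -/
theorem fixed_le_orbits [Finite T] [Finite Ω] (hx : orderOf x = 13) (hxy : y * x * y⁻¹ = x ^ 3) :
    (fixedBy Ω y).ncard ≤ Nat.card (Quotient (orbitRel (Subgroup.zpowers x) Ω)) := by
  rw [← Nat.card_coe_set_eq]
  refine Nat.card_le_card_of_injective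
    (fun a : fixedBy Ω y => (Quotient.mk'' (a : Ω) : Quotient (orbitRel (Subgroup.zpowers x) Ω))) ?_
  intro a b hab
  have hr : (orbitRel (Subgroup.zpowers x) Ω) (a : Ω) (b : Ω) := Quotient.exact hab
  obtain ⟨g, hg⟩ := hr
  -- `g • b = a`
  have hg' : ((g : T) • (b : Ω)) = (a : Ω) := hg
  have ha : y • (a : Ω) = a := a.2
  have hb : y • (b : Ω) = b := b.2
  have h13 := pow13_of_mem hx g.2
  have hc := conj3_of_mem hxy g.2
  have h3 : ((g : T) ^ 3) • (b : Ω) = (g : T) • (b : Ω) := by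
    calc ((g : T) ^ 3) • (b : Ω) = (y * (g : T) * y⁻¹) • (b : Ω) := by rw [hc]
      _ = (y * (g : T) * y⁻¹) • (y • (b : Ω)) := by rw [hb]
      _ = y • ((g : T) • (b : Ω)) := by rw [← mul_smul, inv_mul_cancel_right, mul_smul]
      _ = y • (a : Ω) := by rw [hg']
      _ = (a : Ω) := ha
      _ = (g : T) • (b : Ω) := hg'.symm
  have h2 : ((g : T) ^ 2) • (b : Ω) = (b : Ω) := by
    have h := congrArg (fun z => (g : T)⁻¹ • z) h3
    simp only [← mul_smul] at h
    rw [inv_mul_cancel, one_smul] at h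
    have e : (g : T)⁻¹ * (g : T) ^ 3 = (g : T) ^ 2 := by group
    rwa [e] at h
  have h7 : (((g : T) ^ 2) ^ (7 : ℤ)) • (b : Ω) = (b : Ω) :=
    fixedBy_subset_fixedBy_zpow Ω ((g : T) ^ 2) 7 h2
  have e7 : ((g : T) ^ 2) ^ (7 : ℤ) = (g : T) := by
    have : ((g : T) ^ 2) ^ (7 : ℤ) = ((g : T) ^ 2) ^ (7 : ℕ) := zpow_ofNat _ 7
    rw [this, ← pow_mul]
    show (g : T) ^ 14 = g
    rw [pow_succ, h13, one_mul]
  rw [e7, hg'] at h7
  exact Subtype.ext h7

/-- if `x` has exactly one fixed point then `y` fixes it. -/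
theorem fixed_pos_of_one [Finite Ω] (hx : orderOf x = 13) (hxy : y * x * y⁻¹ = x ^ 3)
    (h1 : (fixedBy Ω x).ncard = 1) : 1 ≤ (fixedBy Ω y).ncard := by
  obtain ⟨a, ha⟩ := Set.ncard_eq_one.mp h1
  have hax : x • a = a := by
    have : a ∈ fixedBy Ω x := by rw [ha]; exact Set.mem_singleton a
    exact this
  have h13 : x ^ 13 = 1 := by rw [← hx]; exact pow_orderOf_eq_one x
  have h3 : (x ^ 3) • (y • a) = y • a := by
    rw [← hxy, ← mul_smul, inv_mul_cancel_right, mul_smul, hax]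
  have h9 : ((x ^ 3) ^ (9 : ℤ)) • (y • a) = y • a :=
    fixedBy_subset_fixedBy_zpow Ω (x ^ 3) 9 h3
  have e9 : (x ^ 3) ^ (9 : ℤ) = x := by
    have : (x ^ 3) ^ (9 : ℤ) = (x ^ 3) ^ (9 : ℕ) := zpow_ofNat _ 9
    rw [this, ← pow_mul]
    show x ^ 27 = x
    rw [show (27 : ℕ) = 13 + 13 + 1 from rfl, pow_succ, pow_add, h13, one_mul, one_mul]
  rw [e9] at h9
  have hm : y • a ∈ fixedBy Ω x := h9
  rw [ha, Set.mem_singleton_iff] at hm
  have hy : a ∈ fixedBy Ω y := hm
  exact (Set.ncard_pos (Set.toFinite _)).mpr ⟨a, hy⟩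

/-- a non-identity element moves some point of a faithful action. -/
theorem fixed_lt_card [Finite Ω] [FaithfulSMul T Ω] (hx : orderOf x = 13) :
    (fixedBy Ω x).ncard < Nat.card Ω := by
  apply Set.ncard_lt_card
  intro h
  have hx1 : x = 1 := by
    apply FaithfulSMul.eq_of_smul_eq_smul (α := Ω)
    intro a
    have : a ∈ fixedBy Ω x := by rw [h]; trivial
    rw [one_smul]
    exact this
  rw [hx1, orderOf_one] at hx
  norm_num at hx

end XY

end Cfsg.Agent.Helper9.TitsTT
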