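import Mathlib
import Cfsg.Agent.Helper9.TitsTT.XY

/-!
# No faithful 2-transitive action for a group with the local data of the Tits group
-/

set_option autoImplicit false
set_option linter.style.haveILetI false

namespace Cfsg.Agent.Helper9.TitsTT

open MulAction

section TwoTrans

variable {T : Type*} [Group T] [Finite T] {Ω : Type*} [Finite Ω] [MulAction T Ω]

theorem choose_two_mul_two (n : ℕ) : n.choose 2 * 2 = n * (n - 1) := by
  rw [Nat.choose_two_right]
  exact Nat.div_mul_cancel (Nat.even_mul_pred_self n).two_dvd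

/-- the order of the stabiliser of two points in a 2-transitive group. -/
theorem card_two_point (h2 : IsMultiplyPretransitive T Ω 2) {a b : Ω} (hab : a ≠ b) :
    Nat.card Ω * (Nat.card Ω - 1) * Nat.card (fixingSubgroup T ({a, b} : Set Ω)) =
      Nat.card T := by
  have hs : ({a, b} : Set Ω).ncard = 2 := Set.ncard_pair hab
  have h := IsMultiplyPretransitive.index_of_fixingSubgroup_eq (G := T) ({a, b} : Set Ω)
    (by rw [hs]; exact h2)
  rw [hs, Nat.factorial_two, choose_two_mul_two] at h
  rw [← h]
  exact Subgroup.index_mul_card _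

/-- the order of a point stabiliser in a transitive group. -/
theorem card_one_point (h2 : IsMultiplyPretransitive T Ω 2) (a : Ω) :
    Nat.card Ω * Nat.card (stabilizer T a) = Nat.card T := by
  haveI : IsPretransitive T Ω := isPretransitive_of_is_two_pretransitive
  rw [← index_stabilizer_of_transitive T a]
  exact Subgroup.index_mul_card _

end TwoTrans

section Arith

theorem arith_listB : (List.range 4241).all (fun n => !(decide (3 ≤ n)) ||
    !(17971200 % (n * (n - 1)) == 0) ||
    [3, 4, 5, 6, 9, 10, 13, 16, 25, 26, 27, 40, 65].contains n) = true := by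
  decide +kernel

theorem arith_list (n : ℕ) (hn : n < 4241) (h3 : 3 ≤ n) (hd : 17971200 % (n * (n - 1)) = 0) :
    n = 3 ∨ n = 4 ∨ n = 5 ∨ n = 6 ∨ n = 9 ∨ n = 10 ∨ n = 13 ∨ n = 16 ∨ n = 25 ∨ n = 26 ∨
      n = 27 ∨ n = 40 ∨ n = 65 := by
  have h := List.all_eq_true.mp arith_listB n (List.mem_range.mpr hn)
  simp only [Bool.or_eq_true, Bool.not_eq_true', decide_eq_false_iff_not, beq_eq_false_iff_ne,
    List.contains_eq_mem, decide_eq_true_eq] at h
  rcases h with (h | h) | h
  · exact absurd h3 h
  · exact absurd hd h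
  · simpa using h

theorem arith_main (n F f orb m : ℕ) (h3 : 3 ≤ n) (e1 : n + 12 * F = orb * 13) (e2 : F < n)
    (e3 : f ≤ orb) (e4 : n + 26 * f = m * 27)
    (e5 : 2 ≤ F → 13 * (n * (n - 1)) ∣ 17971200)
    (e6 : 1 ≤ F → 13 * n ∣ 17971200) (e7 : F = 1 → 1 ≤ f)
    (e8 : n * (n - 1) ∣ 17971200) : False := by
  have hn : n < 4241 := by
    by_contra h
    have h1 : 4241 ≤ n := by omega
    have h2 : 4240 ≤ n - 1 := by omega
    have h3 : 4241 * 4240 ≤ n * (n - 1) := Nat.mul_le_mul h1 h2
    have h4 := Nat.le_of_dvd (by norm_num) e8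
    omega
  have hl := arith_list n hn h3 (Nat.mod_eq_zero_of_dvd e8)
  rcases hl with rfl | rfl | rfl | rfl | rfl | rfl | rfl | rfl | rfl | rfl | rfl | rfl | rfl
  · omega
  · omega
  · omega
  · omega
  · omega
  · omega
  · omega
  · omega
  · omega
  · have e6' : F < 1 := by
      by_contra h
      exact absurd (e6 (by omega)) (by decide)
    omega
  · have e5' : F < 2 := by
      by_contra h
      exact absurd (e5 (by omega)) (by decide)
    omega
  · have e5' : F < 2 := by
      by_contra h
      exact absurd (e5 (by omega)) (by decide)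
    omega
  · have e6' : F < 1 := by
      by_contra h
      exact absurd (e6 (by omega)) (by decide)
    omega

end Arith

/-- **Abstract form of S2197.**  A finite group of order `17971200 = 2¹¹·3³·5²·13` containing
a Frobenius pair `x, y` (orders 13, 3, `y x y⁻¹ = x³`) and a subgroup of order 27 all of whose
non-identity elements are conjugate to `y` or `y⁻¹` has no faithful 2-transitive action on a
finite set with at least three points. -/
theorem no_two_transitive {T : Type*} [Group T] [Finite T]
    (hN : Nat.card T = 17971200)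
    (x y : T) (hx : orderOf x = 13) (hxy : y * x * y⁻¹ = x ^ 3)
    (S : Subgroup T) (hS : Nat.card S = 27)
    (hconj : ∀ g ∈ S, g ≠ 1 → IsConj g y ∨ IsConj g y⁻¹)
    {Ω : Type*} [Finite Ω] [MulAction T Ω] [FaithfulSMul T Ω] (hΩ : 3 ≤ Nat.card Ω) :
    ¬ IsMultiplyPretransitive T Ω 2 := by
  intro h2
  have e1 : Nat.card Ω + 12 * (fixedBy Ω x).ncard =
      Nat.card (Quotient (orbitRel (Subgroup.zpowers x) Ω)) * 13 := burnside_x hx
  have e2 : (fixedBy Ω x).ncard < Nat.card Ω := fixed_lt_card hx
  have e3 : (fixedBy Ω y).ncard ≤ Nat.card (Quotient (orbitRel (Subgroup.zpowers x) Ω)) :=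
    fixed_le_orbits hx hxy
  have e4 : Nat.card Ω + 26 * (fixedBy Ω y).ncard = Nat.card (Quotient (orbitRel S Ω)) * 27 := by
    have h := burnside_const (Ω := Ω) S (fixedBy Ω y).ncard (fun g hg hg1 => by
      rcases hconj g hg hg1 with h | h
      · exact ncard_fixedBy_of_isConj h
      · rw [ncard_fixedBy_of_isConj h, fixedBy_inv])
    rw [hS] at h
    exact h
  have e7 : (fixedBy Ω x).ncard = 1 → 1 ≤ (fixedBy Ω y).ncard := fixed_pos_of_one hx hxy
  have e8 : Nat.card Ω * (Nat.card Ω - 1) ∣ 17971200 := by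
    haveI : Nontrivial Ω := Finite.one_lt_card_iff_nontrivial.mp (by omega)
    obtain ⟨a, b, hab⟩ := exists_pair_ne Ω
    rw [← hN, ← card_two_point h2 hab]
    exact Dvd.intro _ rfl
  have e6 : 1 ≤ (fixedBy Ω x).ncard → 13 * Nat.card Ω ∣ 17971200 := by
    intro h1
    obtain ⟨a, ha⟩ : (fixedBy Ω x).Nonempty := (Set.ncard_pos (Set.toFinite _)).mp h1
    have hxm : x ∈ stabilizer T a := ha
    have hd : 13 ∣ Nat.card (stabilizer T a) := by
      rw [← hx]
      exact Subgroup.orderOf_dvd_natCard _ hxm
    rw [← hN, ← card_one_point h2 a, mul_comm 13]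
    exact Nat.mul_dvd_mul_left _ hd
  have e5 : 2 ≤ (fixedBy Ω x).ncard →
      13 * (Nat.card Ω * (Nat.card Ω - 1)) ∣ 17971200 := by
    intro h2F
    obtain ⟨a, ha, b, hb, hab⟩ := (Set.one_lt_ncard (Set.toFinite _)).mp h2F
    have hxm : x ∈ fixingSubgroup T ({a, b} : Set Ω) := by
      rw [mem_fixingSubgroup_iff]
      intro c hc
      rcases hc with rfl | rfl
      · exact ha
      · exact hb
    have hd : 13 ∣ Nat.card (fixingSubgroup T ({a, b} : Set Ω)) := by
      rw [← hx]
      exact Subgroup.orderOf_dvd_natCard _ hxm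
    rw [← hN, ← card_two_point h2 hab, mul_comm 13]
    exact Nat.mul_dvd_mul_left _ hd
  exact arith_main _ _ _ _ _ hΩ e1 e2 e3 e4 e5 e6 e7 e8

end Cfsg.Agent.Helper9.TitsTT
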